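import Mathlib

/-!
FW (S3211) generic lemma: in `SL₂(F)`, `2 ≠ 0`, an element `x` with `x² = -1` has at most two
square roots: two square roots `u`, `v` of `x` satisfy `u = v` or `u = -v`.
-/

set_option autoImplicit false

namespace Cfsg.Agent.Lib.Helper8.FW

universe u

variable {F : Type u} [Field F]

/-- Cayley–Hamilton for a `2 × 2` matrix of determinant one: `m² = (tr m) • m - 1`. -/
theorem sq_eq_trace_smul_sub_one (m : Matrix (Fin 2) (Fin 2) F) (hm : m.det = 1) :
    m * m = (m 0 0 + m 1 1) • m - 1 := by
  rw [Matrix.det_fin_two] at hm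
  ext i j
  fin_cases i <;> fin_cases j <;>
    simp [Matrix.mul_apply, Fin.sum_univ_two] <;>
    first | linear_combination (-1 : F) * hm | ring1

/-- Matrix form: two determinant-one square roots of the same matrix `x` with `x * x = -1`
agree up to sign (`2 ≠ 0`). -/
theorem sqrt_unique_up_to_sign (h2 : (2 : F) ≠ 0) (u v : Matrix (Fin 2) (Fin 2) F)
    (hu : u.det = 1) (hv : v.det = 1) (huv : u * u = v * v)
    (hx : (u * u) * (u * u) = -1) : u = v ∨ u = -v := by
  have eu := sq_eq_trace_smul_sub_one u hu
  have ev := sq_eq_trace_smul_sub_one v hv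
  set τ : F := u 0 0 + u 1 1 with hτ
  set σ : F := v 0 0 + v 1 1 with hσ
  -- `τ • u = σ • v`
  have hts : τ • u = σ • v := by
    have h : τ • u - 1 = σ • v - 1 := by rw [← eu, ← ev, huv]
    exact sub_left_injective h
  -- `τ ≠ 0`
  have hτ0 : τ ≠ 0 := by
    intro h0
    rw [eu, h0, zero_smul, zero_sub] at hx
    have h00 := congrFun (congrFun hx 0) 0
    simp at h00
    apply h2
    have : (1 : F) = -1 := h00
    linear_combination this
  -- traces: `τ² = σ²`
  have htr : τ * τ = σ * σ := by
    have h00 := congrFun (congrFun hts 0) 0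
    have h11 := congrFun (congrFun hts 1) 1
    simp only [Matrix.smul_apply, smul_eq_mul] at h00 h11
    rw [hτ, hσ] at h00 h11 ⊢
    linear_combination (1 : F) * h00 + (1 : F) * h11
  have hcases : σ = τ ∨ σ = -τ := by
    have h : (σ - τ) * (σ + τ) = 0 := by linear_combination (-1 : F) * htr
    rcases mul_eq_zero.mp h with h | h
    · left; exact sub_eq_zero.mp h
    · right; exact eq_neg_of_add_eq_zero_left h
  rcases hcases with h | h
  · left
    rw [h] at hts
    exact smul_right_injective _ hτ0 hts
  · right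
    rw [h, neg_smul, ← smul_neg] at hts
    exact smul_right_injective _ hτ0 hts

/-- `SL₂` form. -/
theorem sl2_sqrt_unique_up_to_sign (h2 : (2 : F) ≠ 0)
    (x u v : Matrix.SpecialLinearGroup (Fin 2) F) (hx : x * x = -1)
    (hu : u * u = x) (hv : v * v = x) : u = v ∨ u = -v := by
  have huv : (u : Matrix (Fin 2) (Fin 2) F) * u = v * v := by
    have := congrArg (fun m : Matrix.SpecialLinearGroup (Fin 2) F =>
      (m : Matrix (Fin 2) (Fin 2) F)) (hu.trans hv.symm)
    simpa using this
  have hxx : ((u : Matrix (Fin 2) (Fin 2) F) * u) * (u * u) = -1 := by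
    have := congrArg (fun m : Matrix.SpecialLinearGroup (Fin 2) F =>
      (m : Matrix (Fin 2) (Fin 2) F)) (show (u * u) * (u * u) = -1 by rw [hu, hx])
    simpa using this
  rcases sqrt_unique_up_to_sign h2 (u : Matrix (Fin 2) (Fin 2) F) v u.det_coe v.det_coe huv hxx
    with h | h
  · left
    exact Subtype.ext h
  · right
    apply Subtype.ext
    rw [h]
    simp

/-- Counting form: the square roots of `x` (with `x * x = -1`) in `SL₂(F)` form a set with at
most two elements. -/
theorem sl2_sqrt_ncard_le_two (h2 : (2 : F) ≠ 0)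
    (x : Matrix.SpecialLinearGroup (Fin 2) F) (hx : x * x = -1) :
    {u : Matrix.SpecialLinearGroup (Fin 2) F | u * u = x}.ncard ≤ 2 := by
  classical
  by_cases hne : {u : Matrix.SpecialLinearGroup (Fin 2) F | u * u = x} = ∅
  · rw [hne]; simp
  obtain ⟨u, hu⟩ := Set.nonempty_iff_ne_empty.mpr hne
  have hsub : {w : Matrix.SpecialLinearGroup (Fin 2) F | w * w = x} ⊆ {u, -u} := by
    intro w hw
    rcases sl2_sqrt_unique_up_to_sign h2 x w u hx hw hu with h | h
    · left; exact h
    · right; exact h
  calc {w : Matrix.SpecialLinearGroup (Fin 2) F | w * w = x}.ncard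
      ≤ ({u, -u} : Set (Matrix.SpecialLinearGroup (Fin 2) F)).ncard :=
        Set.ncard_le_ncard hsub (Set.toFinite _)
    _ ≤ 2 := by
        refine (Set.ncard_insert_le _ _).trans ?_
        rw [Set.ncard_singleton]

end Cfsg.Agent.Lib.Helper8.FW
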